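import Groth.Agent.DerCat.AdjHomotopy
import Groth.Agent.S0476
import Groth.Agent.S1032
import Mathlib.CategoryTheory.Functor.Derived.Adjunction
import Mathlib.CategoryTheory.Functor.Derived.PointwiseLeftDerived
import Mathlib.Algebra.Homology.DerivedCategory.ExactFunctor

/-! # The derived adjunction of an exact left adjoint -/

set_option autoImplicit false
set_option backward.isDefEq.respectTransparency false
set_option backward.defeqAttrib.useBackward true

universe w w' v u v' u'

open CategoryTheory CategoryTheory.Limits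

namespace Groth.Agent.SiteDer

lemma isRightDerived_of_iso_on {A B H : Type*} [Category* A] [Category* B] [Category* H]
    (L : A ⥤ B) (W : MorphismProperty A) [L.IsLocalization W] (F : A ⥤ H) (P : ObjectProperty A)
    [F.HasRightDerivedFunctor W] (hres : ∀ X, ∃ (Y : A) (s : X ⟶ Y), P Y ∧ W s)
    (hF : ∀ X, P X → IsIso ((F.totalRightDerivedUnit L W).app X))
    (G : B ⥤ H) (β : F ⟶ L ⋙ G) (hβ : ∀ X, P X → IsIso (β.app X)) : G.IsRightDerivedFunctor β W := by
  let τ := (F.totalRightDerived L W).rightDerivedDesc (F.totalRightDerivedUnit L W) W G β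
  haveI : L.EssSurj := Localization.essSurj L W
  have hP : ∀ X, P X → IsIso (τ.app (L.obj X)) := fun X hX => by
    haveI := hF X hX
    have h : IsIso ((F.totalRightDerivedUnit L W).app X ≫ τ.app (L.obj X)) := by
      rw [Functor.rightDerived_fac_app]; exact hβ X hX
    exact IsIso.of_isIso_comp_left ((F.totalRightDerivedUnit L W).app X) _
  haveI : ∀ Z, IsIso (τ.app Z) := fun Z => by
    obtain ⟨Y, s, hY, hs⟩ := hres (L.objPreimage Z)
    haveI := Localization.inverts L W s hs
    let e : L.obj Y ≅ Z := (asIso (L.map s)).symm ≪≫ L.objObjPreimageIso Z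
    haveI := hP Y hY
    rw [show τ.app Z = (F.totalRightDerived L W).map e.inv ≫ τ.app (L.obj Y) ≫ G.map e.hom from by
      rw [← τ.naturality, ← Functor.map_comp_assoc, e.inv_hom_id, CategoryTheory.Functor.map_id, Category.id_comp]]
    infer_instance
  haveI : IsIso τ := NatIso.isIso_of_isIso_app τ
  exact (Functor.isRightDerivedFunctor_iff_of_iso (F.totalRightDerivedUnit L W) β W (asIso τ)
    ((F.totalRightDerived L W).rightDerived_fac (F.totalRightDerivedUnit L W) W G β)).1 inferInstance


/-- `L ⊣ R`, `L` exact: `L ⊣ RR` on derived categories. -/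
theorem nonempty_derivedAdjunction {C : Type u} [Category.{v} C] [Abelian C] [IsGrothendieckAbelian.{v} C]
    [HasDerivedCategory.{w} C] {B : Type u'} [Category.{v'} B] [Abelian B] [HasDerivedCategory.{w'} B]
    (L : B ⥤ C) (R : C ⥤ B) (adj : L ⊣ R) [L.Additive] [R.Additive]
    [PreservesFiniteLimits L] [PreservesFiniteColimits L]
    [(R.mapHomotopyCategory (ComplexShape.up ℤ) ⋙ DerivedCategory.Qh).HasRightDerivedFunctor
      (HomotopyCategory.quasiIso C (ComplexShape.up ℤ))] :
    Nonempty (L.mapDerivedCategory ⊣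
      (R.mapHomotopyCategory (ComplexShape.up ℤ) ⋙ DerivedCategory.Qh).totalRightDerived
        DerivedCategory.Qh (HomotopyCategory.quasiIso C (ComplexShape.up ℤ))) := by
  let LF := L.mapDerivedCategory
  let RG := (R.mapHomotopyCategory (ComplexShape.up ℤ) ⋙ DerivedCategory.Qh).totalRightDerived
    DerivedCategory.Qh (HomotopyCategory.quasiIso C (ComplexShape.up ℤ))
  let adjK := Groth.Agent.DerCat.adjHomotopy adj (ComplexShape.up ℤ)
  let W₁ := HomotopyCategory.quasiIso B (ComplexShape.up ℤ)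
  let W₂ := HomotopyCategory.quasiIso C (ComplexShape.up ℤ)
  let F₀ := R.mapHomotopyCategory (ComplexShape.up ℤ) ⋙ DerivedCategory.Qh
  let β := F₀.totalRightDerivedUnit DerivedCategory.Qh W₂
  let α := L.mapDerivedCategoryFactorsh
  have hinj : ∀ K : CochainComplex C ℤ, ∃ (I : CochainComplex C ℤ) (f : K ⟶ I), I.IsKInjective ∧ QuasiIso f :=
    fun K => by
      obtain ⟨I, f, h1, h2, -, -⟩ := Groth.Agent.S0476.result K
      exact ⟨I, f, h1, h2⟩
  let P : ObjectProperty (HomotopyCategory C (ComplexShape.up ℤ)) :=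
    fun Z => ∃ I : CochainComplex C ℤ, I.IsKInjective ∧ (HomotopyCategory.quotient _ _).obj I = Z
  have hres : ∀ Z, ∃ (Y : _) (s : Z ⟶ Y), P Y ∧ W₂ s := fun Z => by
    obtain ⟨K, rfl⟩ := HomotopyCategory.quotient_obj_surjective Z
    obtain ⟨I, f, hI, hf⟩ := hinj K
    exact ⟨_, (HomotopyCategory.quotient _ _).map f, ⟨I, hI, rfl⟩,
      (HomotopyCategory.quotient_map_mem_quasiIso_iff f).2 hf⟩
  have hunit : ∀ Z, P Z → IsIso (β.app Z) := by
    rintro _ ⟨I, hI, rfl⟩
    exact (Groth.Agent.S1032.result hinj F₀).2 I hI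
  let F₁ := (R.mapHomotopyCategory (ComplexShape.up ℤ) ⋙ DerivedCategory.Qh) ⋙ LF
  have hF₁ := Groth.Agent.S1032.result hinj F₁
  haveI : F₁.HasRightDerivedFunctor W₂ := hF₁.1
  haveI : LF.IsLeftDerivedFunctor α.hom W₁ :=
    Functor.isLeftDerivedFunctor_of_inverts W₁ LF α
  haveI : (LF ⋙ RG).IsLeftDerivedFunctor
      ((Functor.associator _ _ _).inv ≫ Functor.whiskerRight α.hom RG) W₁ :=
    Functor.isLeftDerivedFunctor_of_inverts W₁ (LF ⋙ RG) ((Functor.associator _ _ _).symm ≪≫ Functor.isoWhiskerRight α RG)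
  haveI : (RG ⋙ LF).IsRightDerivedFunctor
      (Functor.whiskerRight β LF ≫ (Functor.associator _ _ _).hom) W₂ := by
    refine isRightDerived_of_iso_on DerivedCategory.Qh W₂ F₁ P hres ?_ (RG ⋙ LF) _ fun Z hZ => ?_
    · rintro _ ⟨I, hI, rfl⟩
      exact hF₁.2 I hI
    · haveI := hunit Z hZ
      dsimp
      infer_instance
  exact ⟨adjK.derived W₁ W₂ α.hom β⟩

end Groth.Agent.SiteDer
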