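import Groth.Agent.DerCat.KInjProducts
import Groth.Agent.DerCat.AdjHomotopy
import Groth.Agent.S0476
import Groth.Agent.S1032
import Mathlib.Algebra.Homology.HomotopyCategory.Triangulated
import Mathlib.Algebra.Homology.HomotopyCategory.Shift

/-! # Right derived functors on K-injective complexes, and derived limits -/

set_option autoImplicit false
set_option backward.isDefEq.respectTransparency false
set_option backward.defeqAttrib.useBackward true

universe w w' v u v' u'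

open CategoryTheory Limits Pretriangulated

namespace Groth.Agent.SiteDer

variable {A : Type u} [Category.{v} A] [Abelian A] [IsGrothendieckAbelian.{v} A] [HasDerivedCategory.{w} A]
  {B : Type u'} [Category.{v'} B] [Abelian B] [HasDerivedCategory.{w'} B]

local notation "Qx" => HomotopyCategory.quotient A (ComplexShape.up ℤ)

/-- objects of `K(A)` represented by K-injective complexes -/
def kInjP (P : HomotopyCategory A (ComplexShape.up ℤ)) : Prop :=
  ∃ I : CochainComplex A ℤ, I.IsKInjective ∧ Nonempty ((Qx).obj I ≅ P)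

lemma exists_kInj (K : CochainComplex A ℤ) :
    ∃ (I : CochainComplex A ℤ) (g : K ⟶ I), I.IsKInjective ∧ QuasiIso g := by
  obtain ⟨I, g, hI, hg, -, -⟩ := Groth.Agent.S0476.result K
  exact ⟨I, g, hI, hg⟩

/-- Maps into a product of complexes in the homotopy category. -/
theorem bijective_pi_homotopy (I : ℕ → CochainComplex A ℤ) [HasProduct I]
    (Z : HomotopyCategory A (ComplexShape.up ℤ)) :
    Function.Bijective (fun (φ : Z ⟶ (Qx).obj (∏ᶜ I)) (n : ℕ) => φ ≫ (Qx).map (Pi.π I n)) := by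
  obtain ⟨G, rfl⟩ := HomotopyCategory.quotient_obj_surjective Z
  refine ⟨fun φ ψ he => ?_, fun v => ?_⟩
  · obtain ⟨a, rfl⟩ := (Qx).map_surjective φ
    obtain ⟨b, rfl⟩ := (Qx).map_surjective ψ
    choose c hc using fun n => DerCat.exists_extends_of_homotopy ((a - b) ≫ Pi.π I n)
      ((Homotopy.ofEq (Preadditive.sub_comp _ _ _)).trans (Homotopy.equivSubZero
        (HomotopyCategory.homotopyOfEq _ _ (by
          rw [Functor.map_comp, Functor.map_comp]; exact congrFun he n))))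
    obtain ⟨h⟩ := DerCat.nullHomotopic_of_extends (a - b) (Pi.lift c)
      (Pi.hom_ext _ _ fun n => by rw [Category.assoc, Pi.lift_π]; exact hc n)
    exact HomotopyCategory.eq_of_homotopy _ _ (Homotopy.equivSubZero.symm h)
  · choose a ha using fun n => (Qx).map_surjective (v n)
    refine ⟨(Qx).map (Pi.lift a), funext fun n => ?_⟩
    change _ ≫ _ = v n
    rw [← Functor.map_comp, Pi.lift_π, ha]

lemma isIso_of_bijective {T : Type*} [Category* T] {X Y : T} (a : X ⟶ Y)
    (h : ∀ W, Function.Bijective (fun φ : W ⟶ X => φ ≫ a)) : IsIso a := by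
  obtain ⟨b, hb⟩ := (h Y).2 (𝟙 Y)
  refine ⟨b, (h X).1 ?_, hb⟩
  change (a ≫ b) ≫ a = 𝟙 X ≫ a
  rw [Category.assoc, show b ≫ a = 𝟙 Y from hb, Category.comp_id, Category.id_comp]

/-- The product of K-injective complexes is the product in the derived category. -/
theorem exists_iso_pi_self {Z : ℕ → DerivedCategory A} [HasProduct Z] (I : ℕ → CochainComplex A ℤ) [HasProduct I]
    (hI : ∀ n, (I n).IsKInjective) (e : ∀ n, DerivedCategory.Qh.obj ((Qx).obj (I n)) ≅ Z n) :
    ∃ ε : DerivedCategory.Qh.obj ((Qx).obj (∏ᶜ I)) ≅ ∏ᶜ Z,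
      ∀ n, ε.hom ≫ Pi.π Z n = DerivedCategory.Qh.map ((Qx).map (Pi.π I n)) ≫ (e n).hom := by
  let m := Pi.lift fun n => DerivedCategory.Qh.map ((Qx).map (Pi.π I n)) ≫ (e n).hom
  haveI := DerCat.isKInjective_pi I hI
  haveI := hI
  haveI : IsIso m := isIso_of_bijective m fun W => by
    haveI : (DerivedCategory.Qh (C := A)).EssSurj :=
      Localization.essSurj _ (HomotopyCategory.quasiIso A (ComplexShape.up ℤ))
    let L := DerivedCategory.Qh.objPreimage W
    let eW : DerivedCategory.Qh.obj L ≅ W := DerivedCategory.Qh.objObjPreimageIso W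
    suffices h : Function.Bijective (fun φ : DerivedCategory.Qh.obj L ⟶ DerivedCategory.Qh.obj ((Qx).obj (∏ᶜ I)) =>
        φ ≫ m) by
      refine ⟨fun φ ψ he => ?_, fun ψ => ?_⟩
      · rw [← cancel_epi eW.hom]
        exact h.1 (by simp only [Category.assoc]; exact congrArg (eW.hom ≫ ·) he)
      · obtain ⟨φ, hφ⟩ := h.2 (eW.hom ≫ ψ)
        refine ⟨eW.inv ≫ φ, ?_⟩
        change (eW.inv ≫ φ) ≫ m = ψ
        rw [Category.assoc, show φ ≫ m = eW.hom ≫ ψ from hφ, eW.inv_hom_id_assoc]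
    have hb := CochainComplex.IsKInjective.Qh_map_bijective L (∏ᶜ I)
    refine (Function.Bijective.of_comp_iff _ hb).1 ?_
    let E : (DerivedCategory.Qh.obj L ⟶ ∏ᶜ Z) ≃ ∀ n, (DerivedCategory.Qh.obj L ⟶ Z n) :=
      { toFun := fun φ n => φ ≫ Pi.π Z n
        invFun := fun v => Pi.lift v
        left_inv := fun φ => Pi.hom_ext _ _ fun n => by simp
        right_inv := fun v => funext fun n => by simp }
    refine (Function.Bijective.of_comp_iff' E.bijective _).1 ?_
    have h2 : Function.Bijective (fun (v : ∀ n, L ⟶ (Qx).obj (I n)) (n : ℕ) =>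
        DerivedCategory.Qh.map (v n) ≫ (e n).hom) :=
      Function.Bijective.piMap fun n => ((Iso.homToEquiv (e n)).bijective.comp
        (CochainComplex.IsKInjective.Qh_map_bijective L (I n)))
    convert h2.comp (bijective_pi_homotopy I L) using 1
    funext a n
    simp [E, m]
  exact ⟨asIso m, fun n => by simp [m]⟩

/-- the unit of the right derived functor is invertible at K-injective complexes -/
theorem isIso_unit (R : A ⥤ B) [R.Additive]
    [(R.mapHomotopyCategory (ComplexShape.up ℤ) ⋙ DerivedCategory.Qh).HasRightDerivedFunctor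
      (HomotopyCategory.quasiIso A (ComplexShape.up ℤ))]
    {P : HomotopyCategory A (ComplexShape.up ℤ)} (h : kInjP P) :
    IsIso (((R.mapHomotopyCategory (ComplexShape.up ℤ) ⋙ DerivedCategory.Qh).totalRightDerivedUnit
      DerivedCategory.Qh (HomotopyCategory.quasiIso A (ComplexShape.up ℤ))).app P) := by
  obtain ⟨I, hI, ⟨e⟩⟩ := h
  have := (Groth.Agent.S1032.result exists_kInj (R.mapHomotopyCategory (ComplexShape.up ℤ) ⋙ DerivedCategory.Qh)).2 I hI
  exact (NatTrans.isIso_app_iff_of_iso _ e).1 this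

lemma kInjP_cone_shift {I J : CochainComplex A ℤ} (hI : I.IsKInjective) (hJ : J.IsKInjective) (σ : I ⟶ J) :
    kInjP (((Qx).obj (CochainComplex.mappingCone σ))⟦(-1 : ℤ)⟧) := by
  haveI : (CochainComplex.mappingCone σ).IsKInjective := by
    rw [CochainComplex.isKInjective_iff_rightOrthogonal]
    exact ObjectProperty.ext_of_isTriangulatedClosed₃ _ _ (HomotopyCategory.mappingCone_triangleh_distinguished σ)
      ((CochainComplex.isKInjective_iff_rightOrthogonal _).1 hI)
      ((CochainComplex.isKInjective_iff_rightOrthogonal _).1 hJ)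
  exact ⟨(CochainComplex.mappingCone σ)⟦(-1 : ℤ)⟧, inferInstance, ⟨((Qx).commShiftIso (-1 : ℤ)).app _⟩⟩

/-- A right derived functor sends derived limits to derived limits if it does so for products of K-injectives. -/
theorem isRlimVia_rightDerived (R : A ⥤ B) [R.Additive]
    [(R.mapHomotopyCategory (ComplexShape.up ℤ) ⋙ DerivedCategory.Qh).HasRightDerivedFunctor
      (HomotopyCategory.quasiIso A (ComplexShape.up ℤ))]
    (hpi : ∀ (I : ℕ → CochainComplex A ℤ) [HasProduct I], (∀ n, (I n).IsKInjective) → ∀ (Z : ℕ → DerivedCategory B)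
      [HasProduct Z] (e : ∀ n, (R.mapHomotopyCategory (ComplexShape.up ℤ) ⋙ DerivedCategory.Qh).obj ((Qx).obj (I n)) ≅ Z n),
      ∃ ε : (R.mapHomotopyCategory (ComplexShape.up ℤ) ⋙ DerivedCategory.Qh).obj ((Qx).obj (∏ᶜ I)) ≅ ∏ᶜ Z,
        ∀ n, ε.hom ≫ Pi.π Z n =
          (R.mapHomotopyCategory (ComplexShape.up ℤ) ⋙ DerivedCategory.Qh).map ((Qx).map (Pi.π I n)) ≫ (e n).hom)
    (K : ℕ → DerivedCategory A) (t : ∀ n, K (n + 1) ⟶ K n) [HasProduct K]
    (RR : DerivedCategory A ⥤ DerivedCategory B)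
    (η : R.mapHomotopyCategory (ComplexShape.up ℤ) ⋙ DerivedCategory.Qh ⟶ DerivedCategory.Qh ⋙ RR)
    (hη : ∀ P, kInjP P → IsIso (η.app P))
    [HasProduct fun n => RR.obj (K n)]
    (L : DerivedCategory A) (a : ∀ n, L ⟶ K n) (c : ∏ᶜ K ⟶ L⟦(1 : ℤ)⟧)
    (hL : Triangle.mk (Pi.lift a) (Pi.lift fun n => Pi.π K n - Pi.π K (n + 1) ≫ t n) c ∈ distinguishedTriangles) :
    ∃ c' : (∏ᶜ fun n => RR.obj (K n)) ⟶ (RR.obj L)⟦(1 : ℤ)⟧,
      Triangle.mk (Pi.lift fun n => RR.map (a n))
        (Pi.lift fun n => Pi.π (fun n => RR.obj (K n)) n - Pi.π (fun n => RR.obj (K n)) (n + 1) ≫ RR.map (t n)) c' ∈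
          distinguishedTriangles := by
  let Rh := R.mapHomotopyCategory (ComplexShape.up ℤ) ⋙ DerivedCategory.Qh
  haveI : (DerivedCategory.Qh (C := A)).EssSurj :=
    Localization.essSurj _ (HomotopyCategory.quasiIso A (ComplexShape.up ℤ))
  choose I qI hI hqI using fun n => exists_kInj (DerivedCategory.Q.objPreimage (K n))
  haveI := hI
  let eI : ∀ n, DerivedCategory.Qh.obj ((Qx).obj (I n)) ≅ K n := fun n =>
    (DerivedCategory.quotientCompQhIso A).app (I n) ≪≫
      (@asIso _ _ _ _ (DerivedCategory.Q.map (qI n)) (haveI := hqI n; inferInstance)).symm ≪≫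
      DerivedCategory.Q.objObjPreimageIso (K n)
  choose T hT using fun n => (CochainComplex.IsKInjective.Qh_map_bijective ((Qx).obj (I (n + 1))) (I n)).2
    ((eI (n + 1)).hom ≫ t n ≫ (eI n).inv)
  choose τ hτ using fun n => (Qx).map_surjective (T n)
  let σ : ∏ᶜ I ⟶ ∏ᶜ I := Pi.lift fun n => Pi.π I n - Pi.π I (n + 1) ≫ τ n
  have hkey : ∀ n, (Qx).map σ ≫ (Qx).map (Pi.π I n) = (Qx).map (Pi.π I n) - (Qx).map (Pi.π I (n + 1)) ≫ T n := fun n => by
    rw [← Functor.map_comp, Pi.lift_π, Functor.map_sub, Functor.map_comp, hτ]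
  obtain ⟨εX, hεX⟩ := exists_iso_pi_self (Z := K) I hI eI
  have hσX : DerivedCategory.Qh.map ((Qx).map σ) ≫ εX.hom =
      εX.hom ≫ Pi.lift fun n => Pi.π K n - Pi.π K (n + 1) ≫ t n := by
    refine Pi.hom_ext _ _ fun n => ?_
    simp only [Category.assoc, Pi.lift_π, Preadditive.comp_sub, hεX]
    rw [reassoc_of% hεX (n + 1), ← Functor.map_comp_assoc, hkey, Functor.map_sub, Preadditive.sub_comp,
      Functor.map_comp, Category.assoc, hT]
    simp
  -- the triangle of the fibre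
  let T₀ := (CochainComplex.mappingCone.triangleh σ).invRotate
  have hT₀ : T₀ ∈ distinguishedTriangles :=
    inv_rot_of_distTriang _ (HomotopyCategory.mappingCone_triangleh_distinguished σ)
  let TX := DerivedCategory.Qh.mapTriangle.obj T₀
  have hTX : TX ∈ distinguishedTriangles := DerivedCategory.Qh.map_distinguished _ hT₀
  obtain ⟨i, hi₁, hi₃⟩ := complete_distinguished_triangle_morphism₁ TX _ hTX hL εX.hom εX.hom hσX
  let φ : TX ⟶ Triangle.mk (Pi.lift a) (Pi.lift fun n => Pi.π K n - Pi.π K (n + 1) ≫ t n) c :=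
    { hom₁ := i, hom₂ := εX.hom, hom₃ := εX.hom, comm₁ := hi₁, comm₂ := hσX, comm₃ := hi₃ }
  haveI : IsIso i := isIso₁_of_isIso₂₃ φ hTX hL (inferInstanceAs (IsIso εX.hom)) (inferInstanceAs (IsIso εX.hom))
  have hF : kInjP T₀.obj₁ :=
    kInjP_cone_shift (DerCat.isKInjective_pi I hI) (DerCat.isKInjective_pi I hI) σ
  haveI := hη _ hF
  let φ₁ : Rh.obj T₀.obj₁ ≅ RR.obj L := asIso (η.app T₀.obj₁) ≪≫ RR.mapIso (asIso i)
  let eY : ∀ n, Rh.obj ((Qx).obj (I n)) ≅ RR.obj (K n) := fun n =>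
    @asIso _ _ _ _ (η.app ((Qx).obj (I n))) (hη _ ⟨I n, hI n, ⟨Iso.refl _⟩⟩) ≪≫ RR.mapIso (eI n)
  obtain ⟨εY, hεY⟩ := hpi I hI (fun n => RR.obj (K n)) eY
  have hnat : ∀ n, Rh.map (T n) ≫ (eY n).hom = (eY (n + 1)).hom ≫ RR.map (t n) := fun n => by
    show Rh.map (T n) ≫ η.app _ ≫ RR.map (eI n).hom = (η.app _ ≫ RR.map (eI (n + 1)).hom) ≫ RR.map (t n)
    rw [← Category.assoc, η.naturality (T n), Category.assoc, Category.assoc]
    show η.app _ ≫ RR.map (DerivedCategory.Qh.map (T n)) ≫ _ = _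
    rw [← Functor.map_comp, ← Functor.map_comp, hT]
    simp
  have hσY : Rh.map ((Qx).map σ) ≫ εY.hom = εY.hom ≫ Pi.lift fun n =>
      Pi.π (fun n => RR.obj (K n)) n - Pi.π (fun n => RR.obj (K n)) (n + 1) ≫ RR.map (t n) := by
    refine Pi.hom_ext _ _ fun n => ?_
    simp only [Category.assoc, Pi.lift_π, Preadditive.comp_sub, hεY]
    rw [reassoc_of% hεY (n + 1), ← hnat]
    change Rh.map ((Qx).map σ) ≫ Rh.map ((Qx).map (Pi.π I n)) ≫ (eY n).hom =
      Rh.map ((Qx).map (Pi.π I n)) ≫ (eY n).hom -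
        Rh.map ((Qx).map (Pi.π I (n + 1))) ≫ Rh.map (T n) ≫ (eY n).hom
    rw [← Functor.map_comp_assoc, hkey, Functor.map_sub, Preadditive.sub_comp, Functor.map_comp, Category.assoc]
  have h1 : Rh.map T₀.mor₁ ≫ εY.hom = φ₁.hom ≫ Pi.lift fun n => RR.map (a n) := by
    refine Pi.hom_ext _ _ fun n => ?_
    have e2 : DerivedCategory.Qh.map (T₀.mor₁ ≫ (Qx).map (Pi.π I n)) ≫ (eI n).hom = i ≫ a n := by
      have := hi₁ =≫ Pi.π K n
      simp only [Category.assoc, hεX] at this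
      rw [Functor.map_comp, Category.assoc]
      refine this.trans ?_
      simp
    rw [Category.assoc, Category.assoc, hεY, Pi.lift_π]
    show Rh.map T₀.mor₁ ≫ Rh.map ((Qx).map (Pi.π I n)) ≫ η.app _ ≫ RR.map (eI n).hom =
      (η.app T₀.obj₁ ≫ RR.map i) ≫ RR.map (a n)
    rw [← Functor.map_comp_assoc, ← Category.assoc, η.naturality, Category.assoc, Category.assoc]
    show η.app _ ≫ RR.map (DerivedCategory.Qh.map (T₀.mor₁ ≫ _)) ≫ _ = _
    rw [← Functor.map_comp, ← Functor.map_comp, e2]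
  let TY := Rh.mapTriangle.obj T₀
  refine ⟨εY.inv ≫ TY.mor₃ ≫ φ₁.hom⟦(1 : ℤ)⟧', isomorphic_distinguished _ (Rh.map_distinguished _ hT₀) _
    (Triangle.isoMk _ TY φ₁.symm εY.symm εY.symm ?_ ?_ ?_)⟩
  · show (Pi.lift fun n => RR.map (a n)) ≫ εY.inv = φ₁.inv ≫ Rh.map T₀.mor₁
    rw [Iso.comp_inv_eq, Category.assoc, h1, Iso.inv_hom_id_assoc]
  · show (Pi.lift fun n => Pi.π (fun n => RR.obj (K n)) n - Pi.π (fun n => RR.obj (K n)) (n + 1) ≫ RR.map (t n)) ≫
      εY.inv = εY.inv ≫ Rh.map ((Qx).map σ)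
    rw [Iso.comp_inv_eq, Category.assoc, hσY, Iso.inv_hom_id_assoc]
  · show (εY.inv ≫ TY.mor₃ ≫ φ₁.hom⟦(1 : ℤ)⟧') ≫ φ₁.inv⟦(1 : ℤ)⟧' = εY.inv ≫ TY.mor₃
    rw [Category.assoc, Category.assoc, ← Functor.map_comp, Iso.hom_inv_id, CategoryTheory.Functor.map_id, Category.comp_id]

end Groth.Agent.SiteDer
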