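import Groth.Agent.SiteDer.Adjoint

/-! # Fully faithfulness on bounded objects by dévissage -/

set_option autoImplicit false
set_option linter.all false
set_option backward.isDefEq.respectTransparency false
set_option backward.defeqAttrib.useBackward true

universe w w' v u v' u'

open CategoryTheory CategoryTheory.Limits Pretriangulated DerivedCategory ZeroObject

namespace Groth.Agent.SiteDer

section Five

variable {D : Type*} [Category* D] [Preadditive D] [HasZeroObject D] [HasShift D ℤ]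
  [∀ n : ℤ, (shiftFunctor D n).Additive] [Pretriangulated D]
  {E : Type*} [Category* E] [Preadditive E] [HasZeroObject E] [HasShift E ℤ]
  [∀ n : ℤ, (shiftFunctor E n).Additive] [Pretriangulated E]
  (F : D ⥤ E) [F.CommShift ℤ] [F.IsTriangulated]

/-- `F` is bijective on `Hom(X, Y)` -/
def Bij (X Y : D) : Prop := Function.Bijective (fun φ : X ⟶ Y => F.map φ)

variable {F}

omit [HasZeroObject D] [HasShift D ℤ] [∀ n : ℤ, (shiftFunctor D n).Additive] [Pretriangulated D] in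
lemma Bij.of_iso {X X' Y Y' : D} (h : Bij F X Y) (e : X ≅ X') (e' : Y ≅ Y') : Bij F X' Y' := by
  refine (Function.Bijective.of_comp_iff _ (Iso.homCongr e e').bijective).1 ?_
  have : (fun φ : X' ⟶ Y' => F.map φ) ∘ Iso.homCongr e e' =
      Iso.homCongr (F.mapIso e) (F.mapIso e') ∘ (fun φ : X ⟶ Y => F.map φ) := by
    funext φ
    simp
  rw [this]
  exact (Iso.homCongr _ _).bijective.comp h

lemma Bij.shift {X Y : D} (h : Bij F X Y) (m : ℤ) : Bij F (X⟦m⟧) (Y⟦m⟧) := by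
  have hs : Function.Bijective (fun φ : X ⟶ Y => φ⟦m⟧') :=
    ⟨(shiftFunctor D m).map_injective, (shiftFunctor D m).map_surjective⟩
  refine (Function.Bijective.of_comp_iff _ hs).1 ?_
  have : (fun φ : X⟦m⟧ ⟶ Y⟦m⟧ => F.map φ) ∘ (fun φ : X ⟶ Y => φ⟦m⟧') =
      Iso.homCongr ((F.commShiftIso m).app X).symm ((F.commShiftIso m).app Y).symm ∘
        (fun ψ : F.obj X ⟶ F.obj Y => ψ⟦m⟧') ∘ (fun φ : X ⟶ Y => F.map φ) := by
    funext φ
    simp only [Function.comp_apply, Iso.homCongr_apply, Iso.symm_inv, Iso.symm_hom, Iso.app_hom, Iso.app_inv]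
    rw [← Category.assoc]
    refine (Iso.eq_comp_inv ((F.commShiftIso m).app Y)).2 ?_
    exact (F.commShiftIso m).hom.naturality φ
  rw [this]
  exact (Iso.homCongr _ _).bijective.comp
    (Function.Bijective.comp ⟨(shiftFunctor E m).map_injective, (shiftFunctor E m).map_surjective⟩ h)

theorem bij_right (X : D) (T : Triangle D) (hT : T ∈ distTriang _) (h₀ : Bij F X (T.obj₃⟦(-1 : ℤ)⟧))
    (h₁ : Bij F X T.obj₁) (h₃ : Bij F X T.obj₃) (h₄ : Bij F X (T.obj₁⟦(1 : ℤ)⟧)) : Bij F X T.obj₂ := by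
  constructor
  · intro u u' he
    rw [← sub_eq_zero]
    have he' : F.map (u - u') = 0 := by rw [F.map_sub]; exact sub_eq_zero.2 he
    generalize u - u' = z at he'
    have hz : z ≫ T.mor₂ = 0 := h₃.1 (by
      show F.map _ = F.map _
      rw [F.map_comp, he', zero_comp, F.map_zero])
    obtain ⟨v, hv⟩ := Triangle.coyoneda_exact₂ T hT z hz
    have hT' := inv_rot_of_distTriang _ hT
    obtain ⟨g, hg⟩ := Triangle.coyoneda_exact₂ _ (F.map_distinguished _ hT') (F.map v) (by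
      show F.map v ≫ F.map T.mor₁ = 0
      rw [← F.map_comp, ← hv, he'])
    obtain ⟨w, hw⟩ := h₀.2 g
    have hvw : v = w ≫ T.invRotate.mor₁ := h₁.1 (by
      show F.map v = F.map _
      rw [F.map_comp, hg]
      exact congrArg (· ≫ _) hw.symm)
    rw [hv, hvw, Category.assoc]
    erw [comp_distTriang_mor_zero₁₂ _ hT']
    exact comp_zero
  · intro g
    obtain ⟨u₃, hu₃⟩ := h₃.2 (g ≫ F.map T.mor₂)
    have h0 : u₃ ≫ T.mor₃ = 0 := h₄.1 (by
      show F.map _ = F.map _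
      rw [F.map_comp, show F.map u₃ = _ from hu₃, Category.assoc, ← F.map_comp, comp_distTriang_mor_zero₂₃ _ hT,
        F.map_zero, comp_zero, F.map_zero])
    obtain ⟨u₂, hu₂⟩ := Triangle.coyoneda_exact₃ T hT u₃ h0
    obtain ⟨h, hh⟩ := Triangle.coyoneda_exact₂ _ (F.map_distinguished _ hT) (g - F.map u₂) (by
      show (g - F.map u₂) ≫ F.map T.mor₂ = 0
      rw [Preadditive.sub_comp, ← F.map_comp, ← hu₂, show F.map u₃ = _ from hu₃, sub_self])
    obtain ⟨u₁, hu₁⟩ := h₁.2 h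
    refine ⟨u₁ ≫ T.mor₁ + u₂, ?_⟩
    show F.map _ = g
    rw [F.map_add, F.map_comp, show F.map u₁ = h from hu₁]
    have : h ≫ F.map T.mor₁ = g - F.map u₂ := hh.symm
    rw [this, sub_add_cancel]

theorem bij_left (Y : D) (T : Triangle D) (hT : T ∈ distTriang _) (h₀ : Bij F (T.obj₁⟦(1 : ℤ)⟧) Y)
    (h₁ : Bij F T.obj₁ Y) (h₃ : Bij F T.obj₃ Y) (h₄ : Bij F (T.obj₃⟦(-1 : ℤ)⟧) Y) : Bij F T.obj₂ Y := by
  have hT' := rot_of_distTriang _ hT
  constructor
  · intro u u' he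
    rw [← sub_eq_zero]
    have he' : F.map (u - u') = 0 := by rw [F.map_sub]; exact sub_eq_zero.2 he
    generalize u - u' = z at he'
    have hz : T.mor₁ ≫ z = 0 := h₁.1 (by
      show F.map _ = F.map _
      rw [F.map_comp, he', comp_zero, F.map_zero])
    obtain ⟨v, hv⟩ := Triangle.yoneda_exact₂ T hT z hz
    obtain ⟨g, hg⟩ := Triangle.yoneda_exact₂ _ (F.map_distinguished _ hT') (F.map v) (by
      show F.map T.mor₂ ≫ F.map v = 0
      rw [← F.map_comp, ← hv, he'])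
    obtain ⟨w, hw⟩ := h₀.2 g
    have hvw : v = T.mor₃ ≫ w := h₃.1 (by
      show F.map v = F.map _
      rw [F.map_comp, hg]
      exact congrArg (_ ≫ ·) hw.symm)
    rw [hv, hvw, ← Category.assoc, comp_distTriang_mor_zero₂₃ _ hT, zero_comp]
  · intro g
    obtain ⟨u₁, hu₁⟩ := h₁.2 (F.map T.mor₁ ≫ g)
    have hI := inv_rot_of_distTriang _ hT
    have h0 : T.invRotate.mor₁ ≫ u₁ = 0 := h₄.1 (by
      show F.map _ = F.map _
      rw [F.map_comp, show F.map u₁ = _ from hu₁, ← Category.assoc]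
      erw [← F.map_comp, comp_distTriang_mor_zero₁₂ _ hI]
      rw [F.map_zero, zero_comp]
      exact (F.map_zero _ _).symm)
    obtain ⟨u₂, hu₂⟩ : ∃ u₂ : T.obj₂ ⟶ Y, u₁ = T.mor₁ ≫ u₂ := Triangle.yoneda_exact₂ _ hI u₁ h0
    obtain ⟨h, hh⟩ := Triangle.yoneda_exact₂ _ (F.map_distinguished _ hT) (g - F.map u₂) (by
      show F.map T.mor₁ ≫ (g - F.map u₂) = 0
      rw [Preadditive.comp_sub, ← F.map_comp]
      refine sub_eq_zero.2 (hu₁.symm.trans ?_)
      exact congrArg F.map hu₂)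
    obtain ⟨u₃, hu₃⟩ := h₃.2 h
    refine ⟨T.mor₂ ≫ u₃ + u₂, ?_⟩
    show F.map _ = g
    rw [F.map_add, F.map_comp, show F.map u₃ = h from hu₃]
    have : F.map T.mor₂ ≫ h = g - F.map u₂ := hh.symm
    rw [this, sub_add_cancel]

end Five

section Devissage

variable {A : Type u} [Category.{v} A] [Abelian A] [HasDerivedCategory.{w} A]
  {B : Type u'} [Category.{v'} B] [Abelian B] [HasDerivedCategory.{w'} B]
  (L : A ⥤ B) [L.Additive] [PreservesFiniteLimits L] [PreservesFiniteColimits L]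
  (P : ObjectProperty A) [WSerre.IsWeakSerre P]
  (h : ∀ M M' : A, P M → P M' → ∀ n : ℤ,
    Bij L.mapDerivedCategory ((singleFunctor A 0).obj M) (((singleFunctor A 0).obj M')⟦n⟧))

include h

theorem bij_single (M M' : A) (hM : P M) (hM' : P M') (a b k : ℤ) :
    Bij L.mapDerivedCategory ((singleFunctor A a).obj M) (((singleFunctor A b).obj M')⟦k⟧) :=
  ((h M M' hM hM' (a - b + k)).shift (-a)).of_iso (DerCat.singleShiftIso a M)
    (((shiftFunctorAdd' (DerivedCategory A) (a - b + k) (-a) (-b + k) (by omega)).app _).symm ≪≫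
      (shiftFunctorAdd' (DerivedCategory A) (-b) k (-b + k) rfl).app _ ≪≫
      (shiftFunctor _ k).mapIso (DerCat.singleShiftIso b M'))

theorem bij_bounded (K Y : DerivedCategory A) (a b a' b' : ℤ) [K.IsGE a] [K.IsLE b] [Y.IsGE a'] [Y.IsLE b']
    (hK : WSerre.cohIn P K) (hY : WSerre.cohIn P Y) : Bij L.mapDerivedCategory K Y := by
  have hz : ∀ (X Z : DerivedCategory A), IsZero X ∨ IsZero Z → Bij L.mapDerivedCategory X Z := by
    intro X Z hXZ
    have h1 : Subsingleton (X ⟶ Z) ∧ Subsingleton (L.mapDerivedCategory.obj X ⟶ L.mapDerivedCategory.obj Z) := by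
      rcases hXZ with h | h
      · exact ⟨⟨fun _ _ => h.eq_of_src _ _⟩, ⟨fun _ _ => (L.mapDerivedCategory.map_isZero h).eq_of_src _ _⟩⟩
      · exact ⟨⟨fun _ _ => h.eq_of_tgt _ _⟩, ⟨fun _ _ => (L.mapDerivedCategory.map_isZero h).eq_of_tgt _ _⟩⟩
    haveI := h1.1
    haveI := h1.2
    exact ⟨fun _ _ _ => Subsingleton.elim _ _, fun g => ⟨0, Subsingleton.elim _ _⟩⟩
  have right : ∀ (M : A), P M → ∀ (c : ℤ), ∀ k : ℤ, Bij L.mapDerivedCategory ((singleFunctor A c).obj M) (Y⟦k⟧) := by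
    intro M hM c
    let Q : ObjectProperty (DerivedCategory A) := fun Z =>
      ∀ k : ℤ, Bij L.mapDerivedCategory ((singleFunctor A c).obj M) (Z⟦k⟧)
    haveI : Q.IsClosedUnderIsomorphisms :=
      ⟨fun e hZ k => (hZ k).of_iso (Iso.refl _) ((shiftFunctor _ k).mapIso e)⟩
    refine DerCat.prop_of_single Q (fun Z hZ k => hz _ _ (Or.inr ((shiftFunctor _ k).map_isZero hZ)))
      (fun T hT h₁ h₃ k => ?_) Y a' b' (fun i _ _ k => bij_single L P h M _ hM (hY i) c i k)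
    have hTk := Triangle.shift_distinguished _ hT k
    exact bij_right _ _ hTk
      ((h₃ (k + -1)).of_iso (Iso.refl _) ((shiftFunctorAdd (DerivedCategory A) k (-1)).app _))
      (h₁ k) (h₃ k)
      ((h₁ (k + 1)).of_iso (Iso.refl _) ((shiftFunctorAdd (DerivedCategory A) k 1).app _))
  let Q : ObjectProperty (DerivedCategory A) := fun Z => ∀ k : ℤ, Bij L.mapDerivedCategory (Z⟦k⟧) Y
  haveI : Q.IsClosedUnderIsomorphisms :=
    ⟨fun e hZ k => (hZ k).of_iso ((shiftFunctor _ k).mapIso e) (Iso.refl _)⟩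
  have : Q K := DerCat.prop_of_single Q (fun Z hZ k => hz _ _ (Or.inl ((shiftFunctor _ k).map_isZero hZ)))
      (fun T hT h₁ h₃ k => bij_left _ _ (Triangle.shift_distinguished _ hT k)
        ((h₁ (k + 1)).of_iso ((shiftFunctorAdd (DerivedCategory A) k 1).app _) (Iso.refl _))
        (h₁ k) (h₃ k)
        ((h₃ (k + -1)).of_iso ((shiftFunctorAdd (DerivedCategory A) k (-1)).app _) (Iso.refl _)))
      K a b (fun i _ _ k => ((right _ (hK i) i (-k)).shift k).of_iso (Iso.refl _)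
        ((shiftEquiv' (DerivedCategory A) (-k) k (by omega)).unitIso.symm.app Y))
  exact (this 0).of_iso ((shiftFunctorZero (DerivedCategory A) ℤ).app K) (Iso.refl _)

/-- bounded objects with cohomology in the image -/
theorem exists_preimage (P' : ObjectProperty B) [WSerre.IsWeakSerre P']
    (hess : ∀ N, P' N → ∃ M, P M ∧ Nonempty (L.obj M ≅ N))
    (Z : DerivedCategory B) (a b : ℤ) [Z.IsGE a] [Z.IsLE b] (hZ : WSerre.cohIn P' Z) :
    ∃ (K : DerivedCategory A), (∃ a b : ℤ, K.IsGE a ∧ K.IsLE b) ∧ WSerre.cohIn P K ∧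
      Nonempty (L.mapDerivedCategory.obj K ≅ Z) := by
  let Q : ObjectProperty (DerivedCategory B) := fun Z => ∃ (K : DerivedCategory A),
    (∃ a b : ℤ, K.IsGE a ∧ K.IsLE b) ∧ WSerre.cohIn P K ∧ Nonempty (L.mapDerivedCategory.obj K ≅ Z)
  haveI : Q.IsClosedUnderIsomorphisms := ⟨fun e ⟨K, h1, h2, ⟨e'⟩⟩ => ⟨K, h1, h2, ⟨e' ≪≫ e⟩⟩⟩
  have hzero : IsZero ((singleFunctor A 0).obj (0 : A)) := (singleFunctor A 0).map_isZero (isZero_zero A)
  refine DerCat.prop_of_single Q (fun W hW => ⟨(singleFunctor A 0).obj (0 : A), ⟨0, 0, inferInstance, inferInstance⟩,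
      cohIn_of_isZero P hzero, ⟨(L.mapDerivedCategory.map_isZero hzero).iso hW⟩⟩) ?_ Z a b (fun i _ _ => ?_)
  · rintro T hT ⟨K₁, ⟨a₁, b₁, ha₁, hb₁⟩, hK₁, ⟨e₁⟩⟩ ⟨K₃, ⟨a₃, b₃, ha₃, hb₃⟩, hK₃, ⟨e₃⟩⟩
    haveI := ha₁; haveI := hb₁; haveI := ha₃; haveI := hb₃
    let F := L.mapDerivedCategory
    haveI : (K₁⟦(1 : ℤ)⟧).IsGE (a₁ - 1) := TStructure.t.isGE_shift K₁ a₁ 1 (a₁ - 1) (by omega)
    haveI : (K₁⟦(1 : ℤ)⟧).IsLE (b₁ - 1) := TStructure.t.isLE_shift K₁ b₁ 1 (b₁ - 1) (by omega)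
    have hK₁' : WSerre.cohIn P (K₁⟦(1 : ℤ)⟧) := fun i =>
      P.prop_of_iso (((homologyFunctor A 0).shiftIso 1 i (i + 1) (by omega)).app K₁).symm (hK₁ (i + 1))
    obtain ⟨δ, hδ⟩ := (bij_bounded L P h K₃ (K₁⟦(1 : ℤ)⟧) a₃ b₃ (a₁ - 1) (b₁ - 1) hK₃ hK₁').2
      (e₃.hom ≫ T.mor₃ ≫ e₁.inv⟦(1 : ℤ)⟧' ≫ (F.commShiftIso (1 : ℤ)).inv.app K₁)
    obtain ⟨K₂, f, g, hK⟩ := distinguished_cocone_triangle₂ δ
    have hTF : F.mapTriangle.obj (Triangle.mk f g δ) ∈ distTriang _ := F.map_distinguished _ hK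
    have hc : (F.mapTriangle.obj (Triangle.mk f g δ)).mor₃ ≫ e₁.hom⟦(1 : ℤ)⟧' = e₃.hom ≫ T.mor₃ := by
      show (F.map δ ≫ (F.commShiftIso (1 : ℤ)).hom.app K₁) ≫ _ = _
      rw [show F.map δ = _ from hδ]
      simp [← Functor.map_comp, F]
    obtain ⟨e₂, he₂, he₂'⟩ := complete_distinguished_triangle_morphism₂ _ T hTF hT e₁.hom e₃.hom hc
    haveI : IsIso e₂ := isIso₂_of_isIso₁₃ ({ hom₁ := e₁.hom, hom₂ := e₂, hom₃ := e₃.hom, comm₁ := he₂, comm₂ := he₂', comm₃ := hc } : F.mapTriangle.obj (Triangle.mk f g δ) ⟶ T) hTF hT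
      (inferInstanceAs (IsIso e₁.hom)) (inferInstanceAs (IsIso e₃.hom))
    refine ⟨K₂, ⟨min a₁ a₃, max b₁ b₃, ?_, ?_⟩, cohIn_obj₂ P _ hK hK₁ hK₃, ⟨asIso e₂⟩⟩
    · rw [DerivedCategory.isGE_iff]
      intro i hi
      exact (HomologySequence.exact₂ _ hK i).isZero_X₂ ((isZero_of_isGE K₁ a₁ i (by omega)).eq_of_src _ _)
        ((isZero_of_isGE K₃ a₃ i (by omega)).eq_of_tgt _ _)
    · rw [DerivedCategory.isLE_iff]
      intro i hi
      exact (HomologySequence.exact₂ _ hK i).isZero_X₂ ((isZero_of_isLE K₁ b₁ i (by omega)).eq_of_src _ _)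
        ((isZero_of_isLE K₃ b₃ i (by omega)).eq_of_tgt _ _)
  · obtain ⟨M, hM, ⟨e⟩⟩ := hess _ (hZ i)
    exact ⟨(singleFunctor A i).obj M, ⟨i, i, inferInstance, inferInstance⟩, cohIn_single P hM i,
      ⟨(L.mapDerivedCategorySingleFunctor i).app M ≪≫ (singleFunctor B i).mapIso e⟩⟩

end Devissage

end Groth.Agent.SiteDer
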