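import Groth.Agent.SiteDer.KInjPush
import Groth.Agent.FlatRel.PullKFlat
import Groth.Agent.SiteBase.KFlat.Resolution
import Groth.Agent.SiteBase.ModGrothendieck
import Groth.Agent.DerCat.LeftDeriv
import Groth.Prelude.Def_SiteCmp

/-! # Maps into direct images of K-injective complexes, ringed sites -/

set_option autoImplicit false
set_option backward.isDefEq.respectTransparency false
set_option backward.defeqAttrib.useBackward true

universe u

open CategoryTheory Limits HomologicalComplex

attribute [local instance] HasDerivedCategory.standard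

namespace Groth.Agent.SiteDer

open Groth.Agent.SiteBase Groth.Agent.SiteBase.KFlat

variable {C : Type u} [SmallCategory C] {J : GrothendieckTopology C} {O_C : Sheaf J CommRingCat.{u}}
  {D : Type u} [SmallCategory D] {K : GrothendieckTopology D} {O_D : Sheaf K CommRingCat.{u}}
  (f : ModSite.RMor O_C O_D)

/-- the inverse image of an acyclic K-flat complex with flat terms is acyclic -/
theorem acyclic_pull {L : Cx O_D} (hL : ModSite.IsKFlat L) (hfl : ∀ n, ModSite.IsFlat (L.X n))
    (hac : L.Acyclic) : ((f.pull.mapHomologicalComplex (ComplexShape.up ℤ)).obj L).Acyclic := by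
  have hZ := fun n => isFlat_cycles hL hac hfl n
  haveI : f.pull.Additive := f.adj.left_adjoint_additive
  let P := (f.pull.mapHomologicalComplex (ComplexShape.up ℤ)).obj L
  intro n
  rw [HomologicalComplex.exactAt_iff' _ (n - 1) n (n + 1) (by simp) (by simp)]
  have hT := FlatRel.shortExact_pull f (FlatRel.shortExact_cycles hac n (n + 1) rfl) (hZ (n + 1))
  have hT' := FlatRel.shortExact_pull f (FlatRel.shortExact_cycles hac (n - 1) n (by omega)) (hZ n)
  haveI := hT'.epi_g
  haveI : Mono (f.pull.map (L.iCycles (n + 1))) :=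
    (FlatRel.shortExact_pull f (FlatRel.shortExact_cycles hac (n + 1) (n + 2) (by omega)) (hZ (n + 2))).mono_f
  let S₁ : ShortComplex (ModSite.Mod O_C) := ShortComplex.mk (P.d (n - 1) n) (f.pull.map (L.toCycles n (n + 1)))
    (by
      show f.pull.map (L.d (n - 1) n) ≫ _ = 0
      rw [← f.pull.map_comp, ← L.toCycles_i (n - 1) n, Category.assoc,
        show L.iCycles n ≫ L.toCycles n (n + 1) = 0 by
          rw [← cancel_mono (L.iCycles (n + 1)), Category.assoc, toCycles_i, zero_comp]; exact L.iCycles_d _ _,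
        comp_zero, f.pull.map_zero])
  let φ : S₁ ⟶ (FlatRel.cyclesSeq L n (n + 1) rfl).map f.pull :=
    { τ₁ := f.pull.map (L.toCycles (n - 1) n)
      τ₂ := 𝟙 _
      τ₃ := 𝟙 _
      comm₁₂ := by
        show f.pull.map (L.toCycles (n - 1) n) ≫ f.pull.map (L.iCycles n) = f.pull.map (L.d (n - 1) n) ≫ 𝟙 _
        rw [← f.pull.map_comp, L.toCycles_i, Category.comp_id]
      comm₂₃ := by exact (Category.id_comp _).trans (Category.comp_id _).symm }
  haveI : Epi φ.τ₁ := hT'.epi_g
  haveI : IsIso φ.τ₂ := inferInstanceAs (IsIso (𝟙 _))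
  haveI : Mono φ.τ₃ := inferInstanceAs (Mono (𝟙 _))
  have h₁ : S₁.Exact := (ShortComplex.exact_iff_of_epi_of_isIso_of_mono φ).2 hT.exact
  let ψ : S₁ ⟶ ShortComplex.mk (P.d (n - 1) n) (P.d n (n + 1)) (P.d_comp_d _ _ _) :=
    { τ₁ := 𝟙 _
      τ₂ := 𝟙 _
      τ₃ := f.pull.map (L.iCycles (n + 1))
      comm₁₂ := by exact (Category.id_comp _).trans (Category.comp_id _).symm
      comm₂₃ := by
        show 𝟙 _ ≫ f.pull.map (L.d n (n + 1)) = f.pull.map (L.toCycles n (n + 1)) ≫ f.pull.map (L.iCycles (n + 1))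
        rw [← f.pull.map_comp, L.toCycles_i, Category.id_comp] }
  haveI : Epi ψ.τ₁ := inferInstanceAs (Epi (𝟙 _))
  haveI : IsIso ψ.τ₂ := inferInstanceAs (IsIso (𝟙 _))
  haveI : Mono ψ.τ₃ := inferInstanceAs (Mono (f.pull.map (L.iCycles (n + 1))))
  exact (ShortComplex.exact_iff_of_epi_of_isIso_of_mono ψ).1 h₁

/-- resolutions in the homotopy category: K-flat with flat terms -/
def kFlatP (O : Sheaf K CommRingCat.{u}) :
    ObjectProperty (HomotopyCategory (ModSite.Mod O) (ComplexShape.up ℤ)) :=
  fun P => ∃ L : Cx O, ModSite.IsKFlat L ∧ (∀ n, ModSite.IsFlat (L.X n)) ∧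
    (HomotopyCategory.quotient _ _).obj L = P

lemma exists_kFlatP {O : Sheaf K CommRingCat.{u}} (Z : HomotopyCategory (ModSite.Mod O) (ComplexShape.up ℤ)) :
    ∃ (P : _) (s : P ⟶ Z), kFlatP O P ∧ HomotopyCategory.quasiIso (ModSite.Mod O) (ComplexShape.up ℤ) s := by
  obtain ⟨G, rfl⟩ := HomotopyCategory.quotient_obj_surjective Z
  obtain ⟨N, q, hN, hfl, hq, -⟩ := SiteBase.KFlat.exists_resolution G
  exact ⟨_, (HomotopyCategory.quotient _ _).map q, ⟨N, hN, hfl, rfl⟩,
    (HomotopyCategory.quotient_map_mem_quasiIso_iff q).2 hq⟩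

/-- `f^*` on homotopy categories -/
noncomputable abbrev pullH : HomotopyCategory (ModSite.Mod O_D) (ComplexShape.up ℤ) ⥤
    HomotopyCategory (ModSite.Mod O_C) (ComplexShape.up ℤ) :=
  haveI : f.pull.Additive := f.adj.left_adjoint_additive
  f.pull.mapHomotopyCategory (ComplexShape.up ℤ)

/-- `f^*` inverts quasi-isomorphisms between K-flat complexes with flat terms -/
lemma isIso_map_pullH ⦃P Q : HomotopyCategory (ModSite.Mod O_D) (ComplexShape.up ℤ)⦄ (s : P ⟶ Q)
    (hP : kFlatP O_D P) (hQ : kFlatP O_D Q)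
    (hs : HomotopyCategory.quasiIso (ModSite.Mod O_D) (ComplexShape.up ℤ) s) :
    IsIso (DerivedCategory.Qh.map ((pullH f).map s)) := by
  obtain ⟨M, hM, hMf, rfl⟩ := hP
  obtain ⟨N, hN, hNf, rfl⟩ := hQ
  obtain ⟨α, rfl⟩ := (HomotopyCategory.quotient _ _).map_surjective s
  rw [HomotopyCategory.quotient_map_mem_quasiIso_iff, HomologicalComplex.mem_quasiIso_iff] at hs
  have hac : (CochainComplex.mappingCone α).Acyclic :=
    (GrothSS.quasiIso_iff_acyclic_mappingCone α).1 hs
  haveI : f.pull.Additive := f.adj.left_adjoint_additive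
  have hc := acyclic_pull f (isKFlat_cone α hM hN) (isFlat_cone α hMf hNf) hac
  have hq : QuasiIso ((f.pull.mapHomologicalComplex (ComplexShape.up ℤ)).map α) :=
    (GrothSS.quasiIso_iff_acyclic_mappingCone _).2
      (SiteBase.KFlat.acyclic_of_iso (CochainComplex.mappingCone.mapHomologicalComplexIso α f.pull) hc)
  exact Localization.inverts DerivedCategory.Qh (HomotopyCategory.quasiIso (ModSite.Mod O_C) (ComplexShape.up ℤ)) _
    ((HomotopyCategory.quotient_map_mem_quasiIso_iff _).2 hq)

/-- `f_*` on homotopy categories -/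
noncomputable abbrev pushH : HomotopyCategory (ModSite.Mod O_C) (ComplexShape.up ℤ) ⥤
    HomotopyCategory (ModSite.Mod O_D) (ComplexShape.up ℤ) :=
  f.push.mapHomotopyCategory (ComplexShape.up ℤ)

/-- the adjunction on homotopy categories -/
noncomputable def adjH : pullH f ⊣ pushH f :=
  haveI : f.pull.Additive := f.adj.left_adjoint_additive
  DerCat.adjHomotopy f.adj (ComplexShape.up ℤ)

/-- Maps from K-flat complexes to direct images of K-injective complexes are computed in the homotopy category. -/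
theorem bijective_Qh_map {L : HomotopyCategory (ModSite.Mod O_D) (ComplexShape.up ℤ)} (hL : kFlatP O_D L)
    (I : CochainComplex (ModSite.Mod O_C) ℤ) [I.IsKInjective] :
    Function.Bijective (DerivedCategory.Qh.map :
      (L ⟶ (pushH f).obj ((HomotopyCategory.quotient _ _).obj I)) → _) := by
  let W := HomotopyCategory.quasiIso (ModSite.Mod O_D) (ComplexShape.up ℤ)
  have hbij := fun Z => CochainComplex.IsKInjective.Qh_map_bijective Z I
  refine ⟨fun a b e => ?_, fun g => ?_⟩
  · obtain ⟨Z, s, hs, e'⟩ := (MorphismProperty.map_eq_iff_precomp DerivedCategory.Qh W a b).1 e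
    obtain ⟨P, r, hP, hr⟩ := exists_kFlatP Z
    haveI := isIso_map_pullH f (r ≫ s) hP hL (W.comp_mem _ _ hr hs)
    apply ((adjH f).homEquiv L _).symm.injective
    apply (hbij _).1
    rw [← cancel_epi (DerivedCategory.Qh.map ((pullH f).map (r ≫ s))), ← Functor.map_comp, ← Functor.map_comp,
      ← Adjunction.homEquiv_naturality_left_symm, ← Adjunction.homEquiv_naturality_left_symm, Category.assoc,
      Category.assoc, e']
  · obtain ⟨P, t, b, hP, ht, e⟩ := DerCat.LeftDeriv.exists_roof DerivedCategory.Qh W (kFlatP O_D) exists_kFlatP g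
    haveI := isIso_map_pullH f t hP hL ht
    obtain ⟨a, ha⟩ := (hbij _).2 (inv (DerivedCategory.Qh.map ((pullH f).map t)) ≫
      DerivedCategory.Qh.map (((adjH f).homEquiv P _).symm b))
    refine ⟨(adjH f).homEquiv L _ a, ?_⟩
    haveI := Localization.inverts DerivedCategory.Qh W t ht
    rw [← cancel_epi (DerivedCategory.Qh.map t), e, ← Functor.map_comp, ← Adjunction.homEquiv_naturality_left]
    congr 1
    apply ((adjH f).homEquiv P _).symm.injective
    rw [Equiv.symm_apply_apply]
    apply (hbij _).1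
    rw [Functor.map_comp, ha, IsIso.hom_inv_id_assoc]

/-- Isomorphisms are detected on K-flat complexes with flat terms. -/
lemma isIso_of_bijective_kFlat {A B : DerivedCategory (ModSite.Mod O_D)} (a : A ⟶ B)
    (h : ∀ L, kFlatP O_D L → Function.Bijective (fun φ : DerivedCategory.Qh.obj L ⟶ A => φ ≫ a)) : IsIso a := by
  refine isIso_of_bijective a fun Z => ?_
  haveI : (DerivedCategory.Qh (C := ModSite.Mod O_D)).EssSurj :=
    Localization.essSurj _ (HomotopyCategory.quasiIso (ModSite.Mod O_D) (ComplexShape.up ℤ))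
  obtain ⟨P, s, hP, hs⟩ := exists_kFlatP (DerivedCategory.Qh.objPreimage Z)
  haveI := Localization.inverts DerivedCategory.Qh (HomotopyCategory.quasiIso (ModSite.Mod O_D) (ComplexShape.up ℤ)) s hs
  let e : DerivedCategory.Qh.obj P ≅ Z := asIso (DerivedCategory.Qh.map s) ≪≫ DerivedCategory.Qh.objObjPreimageIso Z
  refine ⟨fun φ ψ he => ?_, fun ψ => ?_⟩
  · rw [← cancel_epi e.hom]
    exact (h P hP).1 (by simp only [Category.assoc]; exact congrArg (e.hom ≫ ·) he)
  · obtain ⟨φ, hφ⟩ := (h P hP).2 (e.hom ≫ ψ)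
    refine ⟨e.inv ≫ φ, ?_⟩
    change (e.inv ≫ φ) ≫ a = ψ
    rw [Category.assoc, show φ ≫ a = e.hom ≫ ψ from hφ, e.inv_hom_id_assoc]

/-- The product of K-injective complexes computes products of derived direct images. -/
theorem exists_iso_pi {Z : ℕ → DerivedCategory (ModSite.Mod O_D)} [HasProduct Z]
    (I : ℕ → CochainComplex (ModSite.Mod O_C) ℤ) [HasProduct I] (hI : ∀ n, (I n).IsKInjective)
    (e : ∀ n, DerivedCategory.Qh.obj ((pushH f).obj ((HomotopyCategory.quotient _ _).obj (I n))) ≅ Z n) :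
    ∃ ε : DerivedCategory.Qh.obj ((pushH f).obj ((HomotopyCategory.quotient _ _).obj (∏ᶜ I))) ≅ ∏ᶜ Z,
      ∀ n, ε.hom ≫ Pi.π Z n = DerivedCategory.Qh.map ((pushH f).map
        ((HomotopyCategory.quotient _ _).map (Pi.π I n))) ≫ (e n).hom := by
  let m := Pi.lift fun n => DerivedCategory.Qh.map ((pushH f).map
    ((HomotopyCategory.quotient (ModSite.Mod O_C) (ComplexShape.up ℤ)).map (Pi.π I n))) ≫ (e n).hom
  haveI := DerCat.isKInjective_pi I hI
  haveI := hI
  haveI : IsIso m := isIso_of_bijective_kFlat m fun L hL => by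
    have hb := bijective_Qh_map f hL (∏ᶜ I)
    refine (Function.Bijective.of_comp_iff _ hb).1 ?_
    have h0 : Function.Bijective (fun (a : L ⟶ (pushH f).obj ((HomotopyCategory.quotient _ _).obj (∏ᶜ I))) (n : ℕ) =>
        (DerivedCategory.Qh.map (a ≫ (pushH f).map ((HomotopyCategory.quotient _ _).map (Pi.π I n))) ≫ (e n).hom)) := by
      have h1 := (bijective_pi_homotopy I ((pullH f).obj L)).comp ((adjH f).homEquiv L _).symm.bijective
      have h2 : Function.Bijective (fun (v : ∀ n, (pullH f).obj L ⟶ (HomotopyCategory.quotient _ _).obj (I n)) (n : ℕ) =>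
          DerivedCategory.Qh.map ((adjH f).homEquiv L _ (v n)) ≫ (e n).hom) :=
        Function.Bijective.piMap fun n => ((Iso.homToEquiv (e n)).bijective.comp
          ((bijective_Qh_map f hL (I n)).comp ((adjH f).homEquiv L _).bijective))
      refine Function.Bijective.of_comp_iff _ (Equiv.refl _).bijective |>.1 ?_
      convert h2.comp h1 using 1
      funext a n
      simp only [Function.comp_apply, Equiv.refl_apply]
      rw [Adjunction.homEquiv_naturality_right, Equiv.apply_symm_apply]
    let E : (DerivedCategory.Qh.obj L ⟶ ∏ᶜ Z) ≃ ∀ n, (DerivedCategory.Qh.obj L ⟶ Z n) :=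
      { toFun := fun φ n => φ ≫ Pi.π Z n
        invFun := fun v => Pi.lift v
        left_inv := fun φ => Pi.hom_ext _ _ fun n => by simp
        right_inv := fun v => funext fun n => by simp }
    refine (Function.Bijective.of_comp_iff' E.bijective _).1 ?_
    convert h0 using 1
    funext a n
    simp [E, m]
  exact ⟨asIso m, fun n => by simp [m]⟩

end Groth.Agent.SiteDer
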