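import Groth.Agent.DerCat.WayOut
import Groth.Prelude.Def_WeakSerre
import Mathlib.CategoryTheory.Triangulated.Adjunction
import Mathlib.Algebra.Homology.DerivedCategory.ExactFunctor

/-! # Right adjoints of derived functors of exact functors, on bounded below objects -/

set_option autoImplicit false
set_option linter.all false
set_option backward.isDefEq.respectTransparency false
set_option backward.defeqAttrib.useBackward true

universe w w' v u v' u'

open CategoryTheory CategoryTheory.Limits Pretriangulated DerivedCategory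

namespace Groth.Agent.SiteDer

section Five

variable {C : Type u} [Category.{v} C] [Abelian C] (P : ObjectProperty C) [WSerre.IsWeakSerre P]

lemma prop_kernel {X Y : C} (f : X ⟶ Y) (hX : P X) (hY : P Y) : P (kernel f) :=
  P.prop_of_isLimit_kernelFork (limit.isLimit (parallelPair f 0)) hX hY

lemma prop_cokernel {X Y : C} (f : X ⟶ Y) (hX : P X) (hY : P Y) : P (cokernel f) :=
  P.prop_of_isColimit_cokernelCofork (colimit.isColimit (parallelPair f 0)) hX hY

/-- weak Serre classes: five terms -/
theorem prop_five {A B M D E : C} (a : A ⟶ B) (b : B ⟶ M) (c : M ⟶ D) (d : D ⟶ E)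
    (w₁ : a ≫ b = 0) (w₂ : b ≫ c = 0) (w₃ : c ≫ d = 0)
    (h₁ : (ShortComplex.mk a b w₁).Exact) (h₂ : (ShortComplex.mk b c w₂).Exact)
    (h₃ : (ShortComplex.mk c d w₃).Exact) (hA : P A) (hB : P B) (hD : P D) (hE : P E) : P M := by
  let q : B ⟶ kernel c := kernel.lift c b w₂
  haveI : Epi q := ((ShortComplex.mk b c w₂).exact_iff_epi_kernel_lift).1 h₂
  have wq : a ≫ q = 0 := by
    rw [← cancel_mono (kernel.ι c), Category.assoc, kernel.lift_ι, w₁, zero_comp]
  have hq : (ShortComplex.mk a q wq).Exact := by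
    refine (ShortComplex.exact_iff_of_epi_of_isIso_of_mono
      (S₁ := ShortComplex.mk a q wq) (S₂ := ShortComplex.mk a b w₁)
      ⟨𝟙 _, 𝟙 _, kernel.ι c, by simp, by simp [q]⟩).2 h₁
  haveI : Epi (ShortComplex.mk a q wq).g := ‹Epi q›
  have hK : P (kernel c) :=
    P.prop_of_iso ((cokernelIsCokernel a).coconePointUniqueUpToIso hq.gIsCokernel)
      (prop_cokernel P a hA hB)
  let p : M ⟶ kernel d := kernel.lift d c w₃
  haveI : Epi p := ((ShortComplex.mk c d w₃).exact_iff_epi_kernel_lift).1 h₃
  have wp : kernel.ι c ≫ p = 0 := by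
    rw [← cancel_mono (kernel.ι d), Category.assoc, kernel.lift_ι, kernel.condition, zero_comp]
  have hp : (ShortComplex.mk (kernel.ι c) p wp).Exact :=
    (ShortComplex.exact_iff_of_epi_of_isIso_of_mono
      (S₁ := ShortComplex.mk (kernel.ι c) p wp)
      (S₂ := ShortComplex.mk (kernel.ι c) c (kernel.condition c))
      ⟨𝟙 _, 𝟙 _, kernel.ι d, by simp, by simp [p]⟩).2
      (ShortComplex.exact_of_f_is_kernel _ (kernelIsKernel c))
  exact P.prop_X₂_of_shortExact (S := ShortComplex.mk (kernel.ι c) p wp)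
    { exact := hp, mono_f := inferInstanceAs (Mono (kernel.ι c)), epi_g := ‹Epi p› }
    hK (prop_kernel P d hD hE)

variable [HasDerivedCategory.{w} C]

lemma cohIn_of_isZero {X : DerivedCategory C} (hX : IsZero X) : WSerre.cohIn P X :=
  fun i => P.prop_of_isZero ((homologyFunctor C i).map_isZero hX)

lemma cohIn_single {M : C} (hM : P M) (n : ℤ) : WSerre.cohIn P ((singleFunctor C n).obj M) := fun i => by
  by_cases hi : i = n
  · subst hi
    exact P.prop_of_iso (DerCat.homologySingleIso i M).symm hM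
  · exact P.prop_of_isZero (DerCat.isZero_homology_single n i hi M)

lemma cohIn_obj₂ (T : Triangle (DerivedCategory C)) (hT : T ∈ distTriang _)
    (h₁ : WSerre.cohIn P T.obj₁) (h₃ : WSerre.cohIn P T.obj₃) : WSerre.cohIn P T.obj₂ := fun i =>
  prop_five P _ _ _ _ _ _ _ (HomologySequence.exact₁ T hT (i - 1) i (by omega))
    (HomologySequence.exact₂ T hT i) (HomologySequence.exact₃ T hT i (i + 1) rfl)
    (h₃ (i - 1)) (h₁ i) (h₃ i) (h₁ (i + 1))

instance : (WSerre.cohIn P : ObjectProperty (DerivedCategory C)).IsClosedUnderIsomorphisms :=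
  ⟨fun {X Y} e h i => P.prop_of_iso ((homologyFunctor C i).mapIso e) (h i)⟩

end Five

section Exact

variable {A : Type u} [Category.{v} A] [Abelian A] [HasDerivedCategory.{w} A]
  {B : Type u'} [Category.{v'} B] [Abelian B] [HasDerivedCategory.{w'} B]
  (L : A ⥤ B) [L.Additive] [PreservesFiniteLimits L] [PreservesFiniteColimits L]

/-- homology of the derived functor of an exact functor -/
theorem nonempty_homology_mapDerived (X : DerivedCategory A) (n : ℤ) :
    Nonempty ((homologyFunctor B n).obj (L.mapDerivedCategory.obj X) ≅ L.obj ((homologyFunctor A n).obj X)) := by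
  let K := DerivedCategory.Q.objPreimage X
  let e : DerivedCategory.Q.obj K ≅ X := DerivedCategory.Q.objObjPreimageIso X
  exact ⟨(homologyFunctor B n).mapIso (L.mapDerivedCategory.mapIso e.symm ≪≫ L.mapDerivedCategoryFactors.app K) ≪≫
    (homologyFunctorFactors B n).app _ ≪≫ ShortComplex.mapHomologyIso (K.sc n) L ≪≫
    L.mapIso ((homologyFunctorFactors A n).app K).symm ≪≫ L.mapIso ((homologyFunctor A n).mapIso e)⟩

lemma isGE_mapDerived (X : DerivedCategory A) (n : ℤ) [X.IsGE n] : (L.mapDerivedCategory.obj X).IsGE n := by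
  rw [DerivedCategory.isGE_iff]
  intro i hi
  exact (L.map_isZero (isZero_of_isGE X n i hi)).of_iso (nonempty_homology_mapDerived L X i).some

lemma isLE_mapDerived (X : DerivedCategory A) (n : ℤ) [X.IsLE n] : (L.mapDerivedCategory.obj X).IsLE n := by
  rw [DerivedCategory.isLE_iff]
  intro i hi
  exact (L.map_isZero (isZero_of_isLE X n i hi)).of_iso (nonempty_homology_mapDerived L X i).some

lemma cohIn_mapDerived (P : ObjectProperty A) (Q : ObjectProperty B) [Q.IsClosedUnderIsomorphisms]
    (h : ∀ M, P M → Q (L.obj M)) (X : DerivedCategory A) (hX : WSerre.cohIn P X) :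
    WSerre.cohIn Q (L.mapDerivedCategory.obj X) := fun i =>
  Q.prop_of_iso (nonempty_homology_mapDerived L X i).some.symm (h _ (hX i))

variable {L} {G : DerivedCategory B ⥤ DerivedCategory A} (adj : L.mapDerivedCategory ⊣ G)
include adj

/-- the right adjoint is left t-exact -/
lemma isGE_rightAdjoint (X : DerivedCategory B) (n : ℤ) [X.IsGE n] : (G.obj X).IsGE n := by
  rw [DerivedCategory.isGE_iff]
  intro i hi
  let t := TStructure.t (C := A)
  haveI := adj.right_adjoint_additive
  have h0 : (t.truncLEι (n - 1)).app (G.obj X) = 0 := by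
    haveI : (L.mapDerivedCategory.obj ((t.truncLE (n - 1)).obj (G.obj X))).IsLE (n - 1) := isLE_mapDerived L _ _
    apply (adj.homEquiv _ _).symm.injective
    rw [TStructure.t.zero ((adj.homEquiv _ _).symm ((t.truncLEι (n - 1)).app (G.obj X))) (n - 1) n (by omega),
      Adjunction.homEquiv_counit, Functor.map_zero, zero_comp]
  haveI := DerCat.isIso_homology_truncLEι (G.obj X) (n - 1) i (by omega)
  have h1 : (homologyFunctor A i).map ((t.truncLEι (n - 1)).app (G.obj X)) = 0 := by rw [h0, Functor.map_zero]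
  exact IsZero.of_epi_eq_zero _ h1

/-- counit on bounded below objects -/
theorem isIso_counit_of_isGE (P : ObjectProperty B) [P.IsClosedUnderIsomorphisms]
    (h : ∀ M, P M → IsIso (adj.counit.app ((singleFunctor B 0).obj M)))
    (X : DerivedCategory B) (a : ℤ) [X.IsGE a] (hX : ∀ i, a ≤ i → P ((homologyFunctor B i).obj X)) :
    IsIso (adj.counit.app X) := by
  letI := adj.rightAdjointCommShift ℤ
  haveI := adj.commShift_of_leftAdjoint ℤ
  haveI := adj.isTriangulated_rightAdjoint
  refine DerCat.isIso_app_of_isGE P (G ⋙ L.mapDerivedCategory) (𝟭 _) adj.counit h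
    (fun m => ⟨m, fun Y hY => ?_⟩) (fun m => ⟨m, fun Y hY => hY⟩) X a hX
  haveI := isGE_rightAdjoint adj Y m
  exact isGE_mapDerived L (G.obj Y) m

/-- unit on bounded below objects -/
theorem isIso_unit_of_isGE (P : ObjectProperty A) [P.IsClosedUnderIsomorphisms]
    (h : ∀ M, P M → IsIso (adj.unit.app ((singleFunctor A 0).obj M)))
    (Y : DerivedCategory A) (a : ℤ) [Y.IsGE a] (hY : ∀ i, a ≤ i → P ((homologyFunctor A i).obj Y)) :
    IsIso (adj.unit.app Y) := by
  letI := adj.rightAdjointCommShift ℤ
  haveI := adj.commShift_of_leftAdjoint ℤ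
  haveI := adj.isTriangulated_rightAdjoint
  refine DerCat.isIso_app_of_isGE P (𝟭 _) (L.mapDerivedCategory ⋙ G) adj.unit h
    (fun m => ⟨m, fun Z hZ => hZ⟩) (fun m => ⟨m, fun Z hZ => ?_⟩) Y a hY
  haveI := isGE_mapDerived L Z m
  exact isGE_rightAdjoint adj (L.mapDerivedCategory.obj Z) m

/-- `RR` lands in `D_{P}` -/
theorem cohIn_rightAdjoint (P : ObjectProperty A) [WSerre.IsWeakSerre P] (Q : ObjectProperty B)
    [Q.IsClosedUnderIsomorphisms]
    (h2c : ∀ N, Q N → ∃ M, P M ∧ Nonempty (L.obj M ≅ N))
    (h3 : ∀ M, P M → IsIso (adj.unit.app ((singleFunctor A 0).obj M)))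
    (X : DerivedCategory B) (a : ℤ) [X.IsGE a] (hX : WSerre.cohIn Q X) : WSerre.cohIn P (G.obj X) := by
  letI := adj.rightAdjointCommShift ℤ
  haveI := adj.commShift_of_leftAdjoint ℤ
  haveI := adj.isTriangulated_rightAdjoint
  let R : ObjectProperty (DerivedCategory B) := fun Z => WSerre.cohIn P (G.obj Z)
  haveI : R.IsClosedUnderIsomorphisms :=
    ⟨fun {Z Z'} e h => (WSerre.cohIn P : ObjectProperty (DerivedCategory A)).prop_of_iso (G.mapIso e) h⟩
  have hsingle : ∀ N, Q N → ∀ n, R ((singleFunctor B n).obj N) := by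
    intro N hN n
    obtain ⟨M, hM, ⟨e⟩⟩ := h2c N hN
    haveI := h3 M hM
    let es : L.mapDerivedCategory.obj ((singleFunctor A 0).obj M) ≅ (singleFunctor B 0).obj N :=
      (L.mapDerivedCategorySingleFunctor 0).app M ≪≫ (singleFunctor B 0).mapIso e
    refine R.prop_of_iso (DerCat.singleShiftIso n N) ?_
    refine (WSerre.cohIn P : ObjectProperty (DerivedCategory A)).prop_of_iso ?_ (cohIn_single P hM n)
    exact (DerCat.singleShiftIso n M).symm ≪≫ (shiftFunctor _ (-n)).mapIso
      (asIso (adj.unit.app ((singleFunctor A 0).obj M)) ≪≫ G.mapIso es) ≪≫ ((G.commShiftIso (-n)).app _).symm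
  have hext : ∀ T ∈ distTriang (DerivedCategory B), R T.obj₁ → R T.obj₃ → R T.obj₂ := fun T hT h₁ h₂ =>
    cohIn_obj₂ P _ (G.map_distinguished T hT) h₁ h₂
  intro i
  let t := TStructure.t (C := B)
  let n := max a i
  have hT := t.triangleLEGT_distinguished n X
  have hW : ((t.truncGT n).obj X).IsGE (n + 1) := inferInstance
  haveI := isGE_rightAdjoint adj ((t.truncGT n).obj X) (n + 1)
  have hL : R ((t.truncLE n).obj X) :=
    DerCat.prop_of_single R (fun Z hZ => cohIn_of_isZero P (G.map_isZero hZ)) hext _ a n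
      fun j _ hj => hsingle _ (by
        haveI := DerCat.isIso_homology_truncLEι X n j hj
        exact Q.prop_of_iso (asIso ((homologyFunctor B j).map ((t.truncLEι n).app X))).symm (hX j)) j
  have z₁ : IsZero ((homologyFunctor A (i - 1)).obj (G.obj ((t.truncGT n).obj X))) :=
    isZero_of_isGE _ (n + 1) _ (by omega)
  have z₂ : IsZero ((homologyFunctor A i).obj (G.obj ((t.truncGT n).obj X))) :=
    isZero_of_isGE _ (n + 1) _ (by omega)
  haveI : Mono ((homologyFunctor A i).map (G.map ((t.truncLEι n).app X))) :=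
    (HomologySequence.mono_homologyMap_mor₁_iff _ (G.map_distinguished _ hT) (i - 1) i (by omega)).2
      (z₁.eq_of_src _ _)
  haveI : Epi ((homologyFunctor A i).map (G.map ((t.truncLEι n).app X))) :=
    (HomologySequence.epi_homologyMap_mor₁_iff _ (G.map_distinguished _ hT) i).2 (z₂.eq_of_tgt _ _)
  haveI := isIso_of_mono_of_epi ((homologyFunctor A i).map (G.map ((t.truncLEι n).app X)))
  exact P.prop_of_iso (asIso ((homologyFunctor A i).map (G.map ((t.truncLEι n).app X)))) (hL i)

/-- the counit on `D^+_Q` -/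
theorem isIso_counit_single (P : ObjectProperty A) {N : B} {M : A} (e : L.obj M ≅ N)
    (h3 : IsIso (adj.unit.app ((singleFunctor A 0).obj M))) :
    IsIso (adj.counit.app ((singleFunctor B 0).obj N)) := by
  have h := adj.left_triangle_components ((singleFunctor A 0).obj M)
  haveI : IsIso (adj.counit.app (L.mapDerivedCategory.obj ((singleFunctor A 0).obj M))) :=
    IsIso.of_isIso_fac_left h
  let es : L.mapDerivedCategory.obj ((singleFunctor A 0).obj M) ≅ (singleFunctor B 0).obj N :=
    (L.mapDerivedCategorySingleFunctor 0).app M ≪≫ (singleFunctor B 0).mapIso e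
  exact (NatTrans.isIso_app_iff_of_iso adj.counit es).1 this

end Exact

end Groth.Agent.SiteDer
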